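import Groth.Agent.Misc12.AzI.Special
import Mathlib.RingTheory.Jacobson.Ideal
import Mathlib.RingTheory.Jacobson.Radical

/-!
Commutative rings with involution: quadratic étale criteria and the branch locus.
-/

set_option autoImplicit false
set_option linter.unusedSectionVars false
set_option linter.style.haveILetI false

universe u v w w'

open TensorProduct IsLocalRing
open Groth.Misc12.AzI

noncomputable section

namespace Groth.Misc12.RI

variable {S : Type u} [CommRing S] {R : Type v} [CommRing R] [Algebra S R]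

/-- A ring automorphism fixing the fixed ring, as an algebra automorphism. -/
def algInv (lam : R ≃+* R) (hS : RInv.IsFixedRing S R lam) : R ≃ₐ[S] R :=
  AlgEquiv.ofRingEquiv (f := lam) fun s => (hS.2 _).2 ⟨s, rfl⟩

section Criterion

variable (σ : R ≃ₐ[S] R) (hσ : ∀ b, σ (σ b) = b) (hfix : RInv.IsFixedRing S R σ.toRingEquiv)

include hσ hfix

/-- An element with invertible difference from its conjugate makes the algebra quadratic étale. -/
theorem quadEtale_of_isUnit_sub (r : R) (hr : IsUnit (r - σ r)) : RInv.IsQuadEtale S R := by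
  obtain ⟨di, hdi⟩ := hr.exists_left_inv
  have hσdi : σ di = -di := by
    have h1 := congrArg σ hdi
    rw [map_mul, map_sub, hσ, map_one] at h1
    linear_combination -di * h1 - σ di * hdi
  obtain ⟨⟨s, hs⟩, p, hp⟩ := exists_sum_mul hσ hfix r
  let L : (Fin 2 → S) →ₗ[S] R := Fintype.linearCombination S ![1, r]
  have hL : ∀ v, L v = algebraMap S R (v 0) + algebraMap S R (v 1) * r := fun v => by
    simp [L, Fintype.linearCombination_apply, Fin.sum_univ_two, Algebra.smul_def]
  have hbij : Function.Bijective L := by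
    refine ⟨(injective_iff_map_eq_zero L).2 fun v hv => ?_, fun z => ?_⟩
    · rw [hL] at hv
      have h1 := congrArg σ hv
      rw [map_add, map_mul, σ.commutes, σ.commutes, map_zero] at h1
      have h0' : algebraMap S R (v 1) = 0 := by
        linear_combination di * (hv - h1) - algebraMap S R (v 1) * hdi
      have h0 : algebraMap S R (v 0) = 0 := by linear_combination hv - r * h0'
      funext i
      match i with
      | 0 => exact hfix.1 (h0.trans (map_zero _).symm)
      | 1 => exact hfix.1 (h0'.trans (map_zero _).symm)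
    · obtain ⟨b, hb⟩ := (hfix.2 _).1 (show σ (di * (z - σ z)) = _ by rw [map_mul, map_sub, hσdi, hσ]; ring)
      obtain ⟨a, ha⟩ := (hfix.2 _).1 (show σ (z - algebraMap S R b * r) = z - algebraMap S R b * r by
        rw [map_sub, map_mul, σ.commutes]
        linear_combination (r - σ r) * hb + (z - σ z) * hdi)
      refine ⟨![a, b], ?_⟩
      rw [hL]
      simp only [Matrix.cons_val_zero, Matrix.cons_val_one]
      linear_combination ha
  let bas : Module.Basis (Fin 2) S R := (Pi.basisFun S (Fin 2)).map (LinearEquiv.ofBijective L hbij)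
  haveI : Module.Free S R := Module.Free.of_basis bas
  haveI : Module.Finite S R := Module.Finite.of_basis bas
  refine ⟨inferInstance, inferInstance, ?_, fun Q => ?_⟩
  · rw [Algebra.FormallyUnramified.iff_comp_injective]
    intro C _ _ I hI f₁ f₂ he
    have hmem : ∀ x, f₁ x - f₂ x ∈ I := fun x => Ideal.Quotient.eq.1 (DFunLike.congr_fun he x)
    set δ := f₁ r - f₂ r with hδ
    have hδ2 : δ * δ = 0 := by
      have : δ * δ ∈ I ^ 2 := by rw [sq]; exact Ideal.mul_mem_mul (hmem r) (hmem r)
      rwa [hI] at this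
    have hrr : r * r = algebraMap S R s * r - algebraMap S R p := by rw [hs, hp]; ring
    have e₁ := congrArg f₁ hrr
    have e₂ := congrArg f₂ hrr
    simp only [map_mul, map_sub, AlgHom.commutes] at e₁ e₂
    have hδ0 : δ = 0 := by
      have hd : f₁ (r - σ r) = 2 * f₁ r - algebraMap S C s := by
        rw [show r - σ r = 2 * r - algebraMap S R s by rw [hs]; ring, map_sub, map_mul, map_ofNat, f₁.commutes]
      have h3 : δ * f₁ (r - σ r) = 0 := by
        rw [hd]; linear_combination e₁ - e₂ + hδ2  +
          (2 * f₁ r - algebraMap S C s - δ - f₁ r + f₂ r) * hδ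
      exact (hr.map f₁).mul_left_eq_zero.1 h3
    refine AlgHom.ext fun x => ?_
    obtain ⟨v, rfl⟩ := hbij.2 x
    rw [hL]
    simp only [map_add, map_mul, AlgHom.commutes]
    linear_combination algebraMap S C (v 1) * hδ0 - algebraMap S C (v 1) * hδ
  · haveI : Nontrivial S := Q.nontrivial
    rw [Module.rankAtStalk_eq_finrank_of_free]
    simp [Module.finrank_eq_card_basis bas]

theorem comap_eq_maximal [IsLocalRing S] (P : Ideal R) [P.IsMaximal] : P.comap (algebraMap S R) = maximalIdeal S := by
  haveI := isIntegral_fixed hσ hfix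
  exact eq_maximalIdeal (Ideal.isMaximal_comap_of_isIntegral_of_isMaximal P)

theorem mem_jacobson_of_isNonunit [IsLocalRing S] (s : S) (hs : ¬ IsUnit s) : algebraMap S R s ∈ Ring.jacobson R := by
  rw [Ring.jacobson_eq_sInf_isMaximal, Ideal.mem_sInf]
  intro P hP
  haveI : P.IsMaximal := hP
  have : s ∈ P.comap (algebraMap S R) := by rw [comap_eq_maximal σ hσ hfix P]; exact hs
  exact this

theorem nonunit_of_mem_jacobson [IsLocalRing S] (s : S) (h : algebraMap S R s ∈ Ring.jacobson R) :
    s ∈ maximalIdeal S := by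
  haveI : Nontrivial R := hfix.1.nontrivial
  obtain ⟨P, hP⟩ := Ideal.exists_maximal R
  rw [Ring.jacobson_eq_sInf_isMaximal, Ideal.mem_sInf] at h
  rw [← comap_eq_maximal σ hσ hfix P]
  exact h hP

theorem isUnit_sub_or_mem [IsLocalRing S] (r : R) : IsUnit (r - σ r) ∨ σ r - r ∈ Ring.jacobson R := by
  obtain ⟨s, hs⟩ := (hfix.2 ((r - σ r) * (r - σ r))).1
    (show σ ((r - σ r) * (r - σ r)) = _ by rw [map_mul, map_sub, hσ]; ring)
  by_cases hu : IsUnit s
  · left
    have := hu.map (algebraMap S R)
    rw [hs] at this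
    exact isUnit_of_mul_isUnit_left this
  · right
    have h1 := mem_jacobson_of_isNonunit σ hσ hfix s hu
    rw [Ring.jacobson_eq_sInf_isMaximal, Ideal.mem_sInf] at h1 ⊢
    intro P hP
    rw [← neg_sub]
    refine P.neg_mem_iff.2 ?_
    have h2 := h1 hP
    rw [hs] at h2
    exact ((hP : P.IsMaximal).isPrime.mem_or_mem h2).elim id id

theorem isLocalRing_of_trivial [IsLocalRing S] (h : ∀ r, σ r - r ∈ Ring.jacobson R) : IsLocalRing R := by
  haveI : Nontrivial R := hfix.1.nontrivial
  obtain ⟨P, hP⟩ := Ideal.exists_maximal R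
  refine IsLocalRing.of_unique_max_ideal ⟨P, hP, fun Q hQ => ?_⟩
  haveI : Q.IsMaximal := hQ
  refine congrArg PrimeSpectrum.asIdeal (eq_of_comap_eq hσ hfix ⟨P, inferInstance⟩ ⟨Q, inferInstance⟩ (fun r => ?_) ?_)
  · have := h r
    rw [Ring.jacobson_eq_sInf_isMaximal, Ideal.mem_sInf] at this
    exact this hP
  · refine PrimeSpectrum.ext ?_
    change Q.comap (algebraMap S R) = P.comap (algebraMap S R)
    rw [comap_eq_maximal σ hσ hfix Q, comap_eq_maximal σ hσ hfix P]

end Criterion

section QuadLocal

variable (S R) in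
/-- The closed fibre of a quadratic étale algebra. -/
theorem fibre_facts [IsLocalRing S] (hq : RInv.IsQuadEtale S R) :
    IsReduced (ResidueField S ⊗[S] R) ∧ Algebra.FormallyUnramified (ResidueField S) (ResidueField S ⊗[S] R) ∧
      Module.finrank (ResidueField S) (ResidueField S ⊗[S] R) = 2 := by
  obtain ⟨hfin, hproj, hunr, hrk⟩ := hq
  haveI : Module.Free S R := Module.free_of_flat_of_isLocalRing
  have h1 : Module.finrank S R = 2 := by
    have := hrk (closedPoint S)
    rwa [Module.rankAtStalk_eq_finrank_of_free] at this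
  haveI : Algebra.FormallyUnramified (ResidueField S) (ResidueField S ⊗[S] R) :=
    Algebra.FormallyUnramified.base_change (R := S) (A := R) (ResidueField S)
  exact ⟨Algebra.FormallyUnramified.isReduced_of_field (ResidueField S) _, inferInstance,
    by rw [Module.finrank_baseChange, h1]⟩

theorem jacobson_eq_of_quadEtale [IsLocalRing S] (hq : RInv.IsQuadEtale S R) :
    Ring.jacobson R = (maximalIdeal S).map (algebraMap S R) := by
  obtain ⟨hred, -, -⟩ := fibre_facts S R hq
  haveI := hq.1
  haveI : Algebra.IsIntegral S R := Algebra.IsIntegral.of_finite S R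
  refine le_antisymm ?_ ?_
  · let mR := (maximalIdeal S).map (algebraMap S R)
    have e : (R ⧸ mR) ≃ₐ[S] (S ⧸ maximalIdeal S) ⊗[S] R :=
      ((Algebra.TensorProduct.quotIdealMapEquivTensorQuot R (maximalIdeal S)).restrictScalars S).trans
        (Algebra.TensorProduct.comm S R (S ⧸ maximalIdeal S))
    haveI : IsReduced ((S ⧸ maximalIdeal S) ⊗[S] R) := hred
    haveI : IsReduced (R ⧸ mR) := isReduced_of_injective e.toRingEquiv.toRingHom e.injective
    haveI : Module.Finite S (R ⧸ mR) := inferInstance
    haveI : IsArtinianRing (R ⧸ mR) := by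
      haveI : Module.Finite (ResidueField S) (ResidueField S ⊗[S] R) := inferInstance
      haveI : IsArtinianRing (ResidueField S ⊗[S] R) := IsArtinianRing.of_finite (ResidueField S) _
      haveI : IsArtinianRing ((S ⧸ maximalIdeal S) ⊗[S] R) := ‹IsArtinianRing (ResidueField S ⊗[S] R)›
      exact (e.symm.toRingEquiv.surjective.isArtinianRing (f := e.symm.toRingEquiv.toRingHom))
    have hj : Ring.jacobson (R ⧸ mR) = ⊥ := (Ring.jacobson_eq_nilradical_of_krullDimLE_zero (R ⧸ mR)).trans (nilradical_eq_zero _)
    intro x hx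
    have hx' : Ideal.Quotient.mk mR x ∈ Ring.jacobson (R ⧸ mR) :=
      haveI : RingHomSurjective (Ideal.Quotient.mk mR) := ⟨Ideal.Quotient.mk_surjective⟩
      Ring.le_comap_jacobson (Ideal.Quotient.mk mR) hx
    rw [hj] at hx'
    exact Ideal.Quotient.eq_zero_iff_mem.1 hx'
  · rw [Ring.jacobson_eq_sInf_isMaximal]
    refine le_sInf fun P hP => ?_
    haveI : P.IsMaximal := hP
    rw [Ideal.map_le_iff_le_comap, eq_maximalIdeal (Ideal.isMaximal_comap_of_isIntegral_of_isMaximal (R := S) P)]

end QuadLocal

end Groth.Misc12.RI
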