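import Groth.Agent.Misc12.RI.Basic

/-!
The branch locus of a ring with involution.
-/

set_option autoImplicit false
set_option linter.unusedSectionVars false
set_option linter.style.haveILetI false

universe u v w w'

open TensorProduct IsLocalRing
open Groth.Misc12.AzI

noncomputable section

namespace Groth.Misc12.RI

variable {S : Type u} [CommRing S] {R : Type v} [CommRing R] [Algebra S R]

/-- Base change of the fixed ring. -/
theorem fixed_baseChange (S' : Type w) [CommRing S'] [Algebra S S'] (lam : R ≃ₐ[S] R) (hlam : ∀ r, lam (lam r) = r)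
    (hS : RInv.IsFixedRing S R lam.toRingEquiv) (h : Module.Flat S S' ∨ IsUnit (2 : S)) :
    RInv.IsFixedRing S' (S' ⊗[S] R) (Algebra.TensorProduct.congr (AlgEquiv.refl : S' ≃ₐ[S] S') lam).toRingEquiv := by
  set lamT := Algebra.TensorProduct.congr (AlgEquiv.refl : S' ≃ₐ[S] S') lam
  have hcomm : ∀ t, lamT (algebraMap S' (S' ⊗[S] R) t) = algebraMap S' (S' ⊗[S] R) t := fun t => by
    simp [lamT, Algebra.TensorProduct.algebraMap_apply]
  let i : S →ₗ[S] R := Algebra.linearMap S R
  have halg : ∀ t : S', algebraMap S' (S' ⊗[S] R) t = i.lTensor S' (t ⊗ₜ[S] (1 : S)) := fun t => by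
    simp [i, Algebra.TensorProduct.algebraMap_apply]
  suffices H : Function.Injective (algebraMap S' (S' ⊗[S] R)) ∧
      ∀ z, lamT z = z → z ∈ Set.range (algebraMap S' (S' ⊗[S] R)) from
    ⟨H.1, fun z => ⟨H.2 z, fun ⟨t, ht⟩ => by rw [← ht]; exact hcomm t⟩⟩
  rcases h with hflat | h2
  · let d : R →ₗ[S] R := lam.toLinearMap - LinearMap.id
    have hex : Function.Exact i d := fun r => by
      change lam r - r = 0 ↔ r ∈ Set.range (algebraMap S R)
      rw [sub_eq_zero]
      exact hS.2 r
    have hT := Module.Flat.lTensor_exact S' hex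
    have hiT := Module.Flat.lTensor_preserves_injective_linearMap (M := S') i hS.1
    refine ⟨fun a b h => ?_, fun z hz => ?_⟩
    · rw [halg, halg] at h
      simpa using congrArg (TensorProduct.rid S S') (hiT h)
    · have hd : d.lTensor S' z = lamT z - z := by
        clear hz
        induction z using TensorProduct.induction_on with
        | zero => simp
        | tmul t r => simp [d, lamT, tmul_sub]
        | add x y hx hy => rw [map_add, map_add, hx, hy]; abel
      obtain ⟨y, rfl⟩ := (hT z).1 (by rw [hd, hz, sub_self])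
      refine ⟨TensorProduct.rid S S' y, ?_⟩
      rw [halg]
      congr 1
      exact (TensorProduct.rid S S').symm_apply_apply y
  · obtain ⟨c, hc⟩ := h2.exists_left_inv
    choose f hf using fun r => (exists_sum_mul hlam hS r).1
    let π : R →ₗ[S] S :=
      { toFun := fun r => c * f r
        map_add' := fun x y => by
          rw [← mul_add]; congr 1
          exact hS.1 (by rw [map_add, hf, hf, hf, map_add]; ring)
        map_smul' := fun s x => by
          rw [RingHom.id_apply, smul_eq_mul, ← mul_assoc, mul_comm s c, mul_assoc]; congr 1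
          exact hS.1 (by rw [map_mul, hf, hf, Algebra.smul_def, map_mul, lam.commutes]; ring) }
    have hπ : π ∘ₗ i = LinearMap.id := LinearMap.ext_ring (by
      change c * f (algebraMap S R 1) = 1
      rw [show f (algebraMap S R 1) = 2 from hS.1 (by rw [hf, map_one, map_one, map_ofNat]; norm_num), hc])
    refine ⟨fun a b hab => ?_, fun z hz => ⟨TensorProduct.rid S S' (π.lTensor S' z), ?_⟩⟩
    · rw [halg, halg] at hab
      have := congrArg (π.lTensor S') hab
      rw [← LinearMap.comp_apply, ← LinearMap.comp_apply, ← LinearMap.lTensor_comp, hπ, LinearMap.lTensor_id] at this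
      simpa using congrArg (TensorProduct.rid S S') this
    · have key : algebraMap S' (S' ⊗[S] R) (TensorProduct.rid S S' (π.lTensor S' z)) =
          algebraMap S' (S' ⊗[S] R) (algebraMap S S' c) * (z + lamT z) := by
        clear hz
        induction z using TensorProduct.induction_on with
        | zero => simp
        | tmul t r =>
          simp only [LinearMap.lTensor_tmul, TensorProduct.rid_tmul, lamT, Algebra.TensorProduct.congr_apply,
            Algebra.TensorProduct.map_tmul, AlgEquiv.coe_algHom, AlgEquiv.coe_refl, id_eq, ← tmul_add,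
            Algebra.TensorProduct.algebraMap_apply, Algebra.algebraMap_self_apply, Algebra.TensorProduct.tmul_mul_tmul, one_mul]
          change ((c * f r) • t) ⊗ₜ[S] (1 : R) = (algebraMap S S' c * t) ⊗ₜ[S] (r + lam r)
          rw [mul_smul, Algebra.smul_def c, ← Algebra.smul_def (A := S') c t, ← Algebra.smul_def (A := S') c (f r • t),
            smul_comm c (f r) t, TensorProduct.smul_tmul, ← Algebra.algebraMap_eq_smul_one, hf]
        | add x y hx hy => rw [map_add, map_add, map_add, hx, hy, map_add]; ring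
      rw [key, hz, ← two_mul, ← mul_assoc]
      rw [show algebraMap S' (S' ⊗[S] R) (algebraMap S S' c) * 2 = 1 by
        rw [← map_ofNat (algebraMap S' (S' ⊗[S] R)), ← map_mul, ← map_ofNat (algebraMap S S'), ← map_mul, hc, map_one,
          map_one], one_mul]

variable (σ : R ≃ₐ[S] R) (hσ : ∀ b, σ (σ b) = b) (hfix : RInv.IsFixedRing S R σ.toRingEquiv)

include hσ hfix

theorem exists_sq (r : R) : ∃ s, algebraMap S R s = (r - σ r) * (r - σ r) :=
  (hfix.2 _).1 (show σ ((r - σ r) * (r - σ r)) = _ by rw [map_mul, map_sub, hσ]; ring)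

theorem quadEtale_local_iff [IsLocalRing S] : RInv.IsQuadEtale S R → ∃ r, IsUnit (r - σ r) := by
  intro hq
  by_contra hcon
  push Not at hcon
  have htriv : ∀ r, σ r - r ∈ Ring.jacobson R := fun r => (isUnit_sub_or_mem σ hσ hfix r).resolve_left (hcon r)
  haveI := isLocalRing_of_trivial σ hσ hfix htriv
  obtain ⟨hred, hunr, hrk⟩ := fibre_facts S R hq
  haveI := hred
  haveI := hunr
  haveI := hq.1
  set k := ResidueField S
  set Q := k ⊗[S] R
  haveI : Nontrivial Q := Module.nontrivial_of_finrank_eq_succ hrk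
  have hsurj : Function.Surjective (Algebra.TensorProduct.includeRight : R →ₐ[S] Q) := fun z => by
    induction z using TensorProduct.induction_on with
    | zero => exact ⟨0, map_zero _⟩
    | add x y hx hy => obtain ⟨a, rfl⟩ := hx; obtain ⟨b, rfl⟩ := hy; exact ⟨a + b, map_add _ _ _⟩
    | tmul c x =>
      obtain ⟨c, rfl⟩ := residue_surjective c
      refine ⟨c • x, ?_⟩
      change (1 : k) ⊗ₜ[S] (c • x) = _
      rw [← TensorProduct.smul_tmul, Algebra.smul_def, mul_one]
      rfl
  haveI : IsLocalRing Q :=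
    IsLocalRing.of_surjective' (Algebra.TensorProduct.includeRight : R →ₐ[S] Q).toRingHom hsurj
  haveI : IsArtinianRing Q := IsArtinianRing.of_finite k Q
  have hbot : maximalIdeal Q = ⊥ :=
    IsLocalRing.isField_iff_maximalIdeal_eq.1 (IsArtinianRing.isField_of_isReduced_of_isLocalRing Q)
  letI iA : Algebra k (Q ⧸ maximalIdeal Q) := Ideal.Quotient.algebra k
  letI := Ideal.Quotient.field (maximalIdeal Q)
  haveI : Algebra.FormallyUnramified k (Q ⧸ maximalIdeal Q) := Algebra.FormallyUnramified.comp k Q _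
  haveI : Algebra.IsSeparable k (Q ⧸ maximalIdeal Q) := Algebra.FormallyUnramified.isSeparable k _
  let π : R →+* Q ⧸ maximalIdeal Q :=
    (Ideal.Quotient.mk (maximalIdeal Q)).comp (Algebra.TensorProduct.includeRight : R →ₐ[S] Q).toRingHom
  have hπσ : ∀ x, π (σ x) = π x := fun x => by
    refine Ideal.Quotient.eq.2 ?_
    change (Algebra.TensorProduct.includeRight : R →ₐ[S] Q) (σ x) - (Algebra.TensorProduct.includeRight : R →ₐ[S] Q) x ∈ _
    rw [← map_sub, mem_maximalIdeal, mem_nonunits_iff]
    intro hu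
    haveI : IsLocalHom (Algebra.TensorProduct.includeRight : R →ₐ[S] Q).toRingHom :=
      IsLocalHom.of_surjective _ hsurj
    have hu' : IsUnit (σ x - x) := isUnit_of_map_unit (Algebra.TensorProduct.includeRight : R →ₐ[S] Q).toRingHom _ hu
    have := htriv x
    rw [Ring.jacobson_eq_sInf_isMaximal, Ideal.mem_sInf] at this
    replace this := this (maximalIdeal.isMaximal R)
    rw [mem_maximalIdeal] at this
    exact this hu'
  have hπS : ∀ s, π (algebraMap S R s) = algebraMap k (Q ⧸ maximalIdeal Q) (residue S s) := fun s => by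
    change Ideal.Quotient.mk _ ((Algebra.TensorProduct.includeRight : R →ₐ[S] Q) (algebraMap S R s)) = _
    rw [AlgHom.commutes]
    rfl
  have hall : ∀ x : Q ⧸ maximalIdeal Q, x ∈ (algebraMap k (Q ⧸ maximalIdeal Q)).range := fun x => by
    obtain ⟨y, rfl⟩ := Ideal.Quotient.mk_surjective x
    obtain ⟨r, rfl⟩ := hsurj y
    change π r ∈ _
    obtain ⟨⟨s, hs⟩, p, hp⟩ := exists_sum_mul hσ hfix r
    have hsep := Algebra.IsSeparable.isSeparable k (π r)
    have e1 : algebraMap k (Q ⧸ maximalIdeal Q) (residue S s) = π r + π r := by rw [← hπS, hs, map_add, hπσ]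
    have e2 : algebraMap k (Q ⧸ maximalIdeal Q) (residue S p) = π r * π r := by rw [← hπS, hp, map_mul, hπσ]
    refine minpoly.mem_range_of_degree_eq_one k (π r) ?_
    have h0 : Polynomial.aeval (π r)
        (Polynomial.X ^ 2 + (Polynomial.C (-(residue S s)) * Polynomial.X + Polynomial.C (residue S p))) = 0 := by
      simp only [map_add, map_mul, map_pow, Polynomial.aeval_X, Polynomial.aeval_C, map_neg]
      rw [e1, e2]
      ring
    have hd : (minpoly k (π r)).map (algebraMap k (Q ⧸ maximalIdeal Q)) ∣ (Polynomial.X - Polynomial.C (π r)) ^ 2 := by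
      have := Polynomial.map_dvd (algebraMap k (Q ⧸ maximalIdeal Q)) (minpoly.dvd k _ h0)
      convert this using 1
      simp only [Polynomial.map_add, Polynomial.map_mul, Polynomial.map_pow, Polynomial.map_X, Polynomial.map_C]
      rw [map_neg, e1, e2, map_neg, map_add, map_mul]
      ring
    have hsq : Squarefree ((minpoly k (π r)).map (algebraMap k (Q ⧸ maximalIdeal Q))) :=
      Polynomial.Separable.squarefree (Polynomial.Separable.map hsep)
    obtain ⟨i, hi, hi'⟩ := (dvd_prime_pow (Polynomial.prime_X_sub_C (π r)) 2).1 hd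
    have hile : i ≤ 1 := by
      by_contra h2
      push Not at h2
      exact (Polynomial.prime_X_sub_C (π r)).not_unit (hsq _ ((pow_dvd_pow _ h2).trans hi'.symm.dvd |> fun h => by rwa [sq] at h))
    have hdeg := Polynomial.degree_eq_degree_of_associated hi'
    rw [Polynomial.degree_map] at hdeg
    interval_cases i
    · rw [pow_zero, Polynomial.degree_one] at hdeg
      exact absurd hdeg (ne_of_gt (minpoly.degree_pos (Algebra.IsIntegral.isIntegral (R := k) (π r))))
    · rw [pow_one, Polynomial.degree_X_sub_C] at hdeg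
      exact hdeg
  have hb2 : Function.Bijective (Ideal.Quotient.mkₐ k (maximalIdeal Q)) :=
    ⟨(RingHom.injective_iff_ker_eq_bot _).2 (Ideal.mk_ker.trans hbot), Ideal.Quotient.mk_surjective⟩
  have h3 : Module.finrank k Q = 1 :=
    ((LinearEquiv.ofBijective (Ideal.Quotient.mkₐ k (maximalIdeal Q)).toLinearMap hb2).finrank_eq.trans
      (LinearEquiv.ofBijective (Algebra.linearMap k (Q ⧸ maximalIdeal Q))
        ⟨(algebraMap k (Q ⧸ maximalIdeal Q)).injective, fun x => hall x⟩).finrank_eq.symm).trans (Module.finrank_self k)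
  exact absurd (hrk.symm.trans h3) (by norm_num)

theorem quadEtale_at_iff (p : PrimeSpectrum S) :
    RInv.IsQuadEtale (Localization.AtPrime p.asIdeal) (Localization.AtPrime p.asIdeal ⊗[S] R) ↔
      ∃ r s, algebraMap S R s = (r - σ r) * (r - σ r) ∧ s ∉ p.asIdeal := by
  set P := Localization.AtPrime p.asIdeal
  haveI : Module.Flat S P := IsLocalization.flat _ p.asIdeal.primeCompl
  set σP : P ⊗[S] R ≃ₐ[P] P ⊗[S] R := Algebra.TensorProduct.congr (AlgEquiv.refl : P ≃ₐ[P] P) σ
  have hσP : ∀ z, σP (σP z) = z := fun z => by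
    induction z using TensorProduct.induction_on with
    | zero => simp
    | tmul t r => simp [σP, hσ]
    | add x y hx hy => rw [map_add, map_add, hx, hy]
  have hfixP : RInv.IsFixedRing P (P ⊗[S] R) σP.toRingEquiv := fixed_baseChange P σ hσ hfix (Or.inl inferInstance)
  refine ⟨fun hq => ?_, fun ⟨r, s, hs, hsp⟩ => ?_⟩
  · obtain ⟨z, hz⟩ := quadEtale_local_iff σP hσP hfixP hq
    by_contra hcon
    push Not at hcon
    haveI := isIntegral_fixed hσP hfixP
    haveI : Nontrivial (P ⊗[S] R) := hfixP.1.nontrivial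
    obtain ⟨M, hM⟩ := Ideal.exists_maximal (P ⊗[S] R)
    have hall : ∀ w, w - σP w ∈ M := fun w => by
      induction w using TensorProduct.induction_on with
      | zero => simp
      | add x y hx hy => rw [map_add, add_sub_add_comm]; exact add_mem hx hy
      | tmul c r =>
        obtain ⟨s, hs⟩ := exists_sq σ hσ hfix r
        have h1 : c ⊗ₜ[S] r - σP (c ⊗ₜ[S] r) = (c ⊗ₜ[S] (1 : R)) * ((1 : P) ⊗ₜ[S] (r - σ r)) := by
          simp [σP, tmul_sub, mul_sub]
        rw [h1]
        refine M.mul_mem_left _ ((hM.isPrime.mem_or_mem ?_).elim id id)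
        have h2 : algebraMap S P s ∈ M.comap (algebraMap P (P ⊗[S] R)) := by
          rw [eq_maximalIdeal (Ideal.isMaximal_comap_of_isIntegral_of_isMaximal M),
            IsLocalization.AtPrime.to_map_mem_maximal_iff P p.asIdeal]
          exact hcon r s hs
        rw [Ideal.mem_comap, Algebra.TensorProduct.algebraMap_apply, Algebra.algebraMap_self_apply] at h2
        rw [Algebra.TensorProduct.tmul_mul_tmul, one_mul, ← hs, Algebra.algebraMap_eq_smul_one, ← TensorProduct.smul_tmul,
          ← Algebra.algebraMap_eq_smul_one]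
        exact h2
    exact hM.ne_top (M.eq_top_of_isUnit_mem (hall z) hz)
  · refine quadEtale_of_isUnit_sub σP hσP hfixP ((1 : P) ⊗ₜ[S] r) (isUnit_of_mul_isUnit_left
      (y := ((1 : P) ⊗ₜ[S] r - σP ((1 : P) ⊗ₜ[S] r))) ?_)
    have h1 : ((1 : P) ⊗ₜ[S] r - σP ((1 : P) ⊗ₜ[S] r)) * ((1 : P) ⊗ₜ[S] r - σP ((1 : P) ⊗ₜ[S] r)) =
        algebraMap P (P ⊗[S] R) (algebraMap S P s) := by
      rw [show ((1 : P) ⊗ₜ[S] r - σP ((1 : P) ⊗ₜ[S] r)) = (1 : P) ⊗ₜ[S] (r - σ r) by simp [σP, tmul_sub],
        Algebra.TensorProduct.tmul_mul_tmul, one_mul, ← hs, Algebra.TensorProduct.algebraMap_apply,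
        Algebra.algebraMap_self_apply, Algebra.algebraMap_eq_smul_one, ← TensorProduct.smul_tmul,
        ← Algebra.algebraMap_eq_smul_one]
    rw [h1]
    exact (IsLocalization.map_units P (⟨s, hsp⟩ : p.asIdeal.primeCompl)).map _

theorem branch_iff (p : PrimeSpectrum S) :
    ¬ RInv.IsQuadEtale (Localization.AtPrime p.asIdeal) (Localization.AtPrime p.asIdeal ⊗[S] R) ↔
      ∃ q : PrimeSpectrum R, q.asIdeal.comap (algebraMap S R) = p.asIdeal ∧
        (∀ q' : PrimeSpectrum R, q'.asIdeal.comap (algebraMap S R) = p.asIdeal → q' = q) ∧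
        ∀ r : R, σ r - r ∈ q.asIdeal := by
  rw [quadEtale_at_iff σ hσ hfix]
  refine ⟨fun h => ?_, ?_⟩
  · push Not at h
    haveI := isIntegral_fixed hσ hfix
    obtain ⟨Q, -, hQ, hQP⟩ := Ideal.exists_ideal_over_prime_of_isIntegral p.asIdeal (⊥ : Ideal R) (by
      rw [← RingHom.ker_eq_comap_bot, (RingHom.injective_iff_ker_eq_bot _).1 hfix.1]; exact bot_le)
    have hr : ∀ r, σ r - r ∈ Q := fun r => by
      obtain ⟨s, hs⟩ := exists_sq σ hσ hfix r
      have h1 := h r s hs
      rw [← hQP, Ideal.mem_comap, hs] at h1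
      rw [← neg_sub]
      exact Q.neg_mem_iff.2 ((hQ.mem_or_mem h1).elim id id)
    exact ⟨⟨Q, hQ⟩, hQP, fun q' hq' => eq_of_comap_eq hσ hfix ⟨Q, hQ⟩ q' hr (PrimeSpectrum.ext (hq'.trans hQP.symm)), hr⟩
  · rintro ⟨q, hq, -, hr⟩ ⟨r, s, hs, hsp⟩
    rw [← hq, Ideal.mem_comap, hs, ← neg_mul_neg, neg_sub] at hsp
    exact hsp (q.asIdeal.mul_mem_left _ (hr r))

/-- The branch locus is closed. -/
theorem vanishing_subset (p : PrimeSpectrum S)
    (hp : PrimeSpectrum.vanishingIdeal {p : PrimeSpectrum S |
      ¬ RInv.IsQuadEtale (Localization.AtPrime p.asIdeal) (Localization.AtPrime p.asIdeal ⊗[S] R)} ≤ p.asIdeal) :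
    ¬ RInv.IsQuadEtale (Localization.AtPrime p.asIdeal) (Localization.AtPrime p.asIdeal ⊗[S] R) := by
  rw [quadEtale_at_iff σ hσ hfix]
  rintro ⟨r, s, hs, hsp⟩
  refine hsp (hp ((PrimeSpectrum.mem_vanishingIdeal _ _).2 fun q hq => ?_))
  by_contra hqs
  exact hq ((quadEtale_at_iff σ hσ hfix q).2 ⟨r, s, hs, hqs⟩)

theorem branch_ramified (q : PrimeSpectrum R)
    (hp : PrimeSpectrum.vanishingIdeal {p : PrimeSpectrum S |
      ¬ RInv.IsQuadEtale (Localization.AtPrime p.asIdeal) (Localization.AtPrime p.asIdeal ⊗[S] R)} ≤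
        (PrimeSpectrum.comap (algebraMap S R) q).asIdeal) (r : R) : σ r - r ∈ q.asIdeal := by
  obtain ⟨q₀, -, hu, hr⟩ := (branch_iff σ hσ hfix _).1 (vanishing_subset σ hσ hfix _ hp)
  rw [hu q rfl]
  exact hr r

end Groth.Misc12.RI
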