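import Groth.Agent.Misc12.RI.Branch

/-!
Further facts on rings with involution over a local fixed ring.
-/

set_option autoImplicit false
set_option linter.unusedSectionVars false
set_option linter.style.haveILetI false

universe u v w

open TensorProduct IsLocalRing
open Groth.Misc12.AzI

noncomputable section

namespace Groth.Misc12.RI

variable {S : Type u} [CommRing S] {R : Type v} [CommRing R] [Algebra S R]
variable (σ : R ≃ₐ[S] R) (hσ : ∀ b, σ (σ b) = b) (hfix : RInv.IsFixedRing S R σ.toRingEquiv)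

include hσ hfix

theorem quadEtale_away (p : PrimeSpectrum S)
    (hp : RInv.IsQuadEtale (Localization.AtPrime p.asIdeal) (Localization.AtPrime p.asIdeal ⊗[S] R)) :
    ∃ s : S, s ∉ p.asIdeal ∧ RInv.IsQuadEtale (Localization.Away s) (Localization.Away s ⊗[S] R) := by
  obtain ⟨r, s, hs, hsp⟩ := (quadEtale_at_iff σ hσ hfix p).1 hp
  refine ⟨s, hsp, ?_⟩
  set P := Localization.Away s
  haveI : Module.Flat S P := IsLocalization.flat _ (Submonoid.powers s)
  set σP : P ⊗[S] R ≃ₐ[P] P ⊗[S] R := Algebra.TensorProduct.congr (AlgEquiv.refl : P ≃ₐ[P] P) σ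
  have hσP : ∀ z, σP (σP z) = z := fun z => by
    induction z using TensorProduct.induction_on with
    | zero => simp
    | tmul t r => simp [σP, hσ]
    | add x y hx hy => rw [map_add, map_add, hx, hy]
  have hfixP : RInv.IsFixedRing P (P ⊗[S] R) σP.toRingEquiv := fixed_baseChange P σ hσ hfix (Or.inl inferInstance)
  refine quadEtale_of_isUnit_sub σP hσP hfixP ((1 : P) ⊗ₜ[S] r) (isUnit_of_mul_isUnit_left
    (y := ((1 : P) ⊗ₜ[S] r - σP ((1 : P) ⊗ₜ[S] r))) ?_)
  have h1 : ((1 : P) ⊗ₜ[S] r - σP ((1 : P) ⊗ₜ[S] r)) * ((1 : P) ⊗ₜ[S] r - σP ((1 : P) ⊗ₜ[S] r)) =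
      algebraMap P (P ⊗[S] R) (algebraMap S P s) := by
    rw [show ((1 : P) ⊗ₜ[S] r - σP ((1 : P) ⊗ₜ[S] r)) = (1 : P) ⊗ₜ[S] (r - σ r) by simp [σP, tmul_sub],
      Algebra.TensorProduct.tmul_mul_tmul, one_mul, ← hs, Algebra.TensorProduct.algebraMap_apply,
      Algebra.algebraMap_self_apply, Algebra.algebraMap_eq_smul_one, ← TensorProduct.smul_tmul,
      ← Algebra.algebraMap_eq_smul_one]
  rw [h1]
  exact (IsLocalization.Away.algebraMap_isUnit s).map _

theorem hilbert90 [IsLocalRing S] (hq : RInv.IsQuadEtale S R) (r : Rˣ) (hr : σ r * r = 1) :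
    ∃ a : Rˣ, (r : R) = (a⁻¹ : Rˣ) * σ a := by
  obtain ⟨r₀, hr₀⟩ := quadEtale_local_iff σ hσ hfix hq
  let L : R → R := fun x => x + σ r * σ x
  have hL : ∀ x, σ (L x) = r * L x := fun x => by
    simp only [L, map_add, map_mul, hσ]
    linear_combination -(σ x) * hr
  have hbad : ∀ a, σ a = r * a → ¬ IsUnit a → a ∈ Ring.jacobson R := fun a ha hn => by
    obtain ⟨s, hs⟩ := (hfix.2 (a * σ a)).1 (show σ (a * σ a) = _ by rw [map_mul, hσ, mul_comm])
    have hsn : ¬ IsUnit s := fun hu => hn (by
      have := hu.map (algebraMap S R)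
      rw [hs] at this
      exact isUnit_of_mul_isUnit_left this)
    have h1 := mem_jacobson_of_isNonunit σ hσ hfix s hsn
    rw [Ring.jacobson_eq_sInf_isMaximal, Ideal.mem_sInf] at h1 ⊢
    intro P hP
    have hPp : P.IsPrime := (hP : P.IsMaximal).isPrime
    have h2 := h1 hP
    rw [hs, ha] at h2
    rcases hPp.mem_or_mem h2 with h3 | h3
    · exact h3
    · rcases hPp.mem_or_mem h3 with h4 | h4
      · exact absurd (P.eq_top_of_isUnit_mem h4 r.isUnit) hPp.ne_top
      · exact h4
  obtain ⟨x, hx⟩ : ∃ x, IsUnit (L x) := by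
    by_contra hcon
    push Not at hcon
    have h1 := Ideal.sub_mem _ (hbad _ (hL r₀) (hcon r₀)) (Ideal.mul_mem_left _ (σ r₀) (hbad _ (hL 1) (hcon 1)))
    rw [show L r₀ - σ r₀ * L 1 = r₀ - σ r₀ by simp only [L, map_one]; ring] at h1
    haveI : Nontrivial R := hfix.1.nontrivial
    obtain ⟨P, hP⟩ := Ideal.exists_maximal R
    rw [Ring.jacobson_eq_sInf_isMaximal, Ideal.mem_sInf] at h1
    exact hP.ne_top (P.eq_top_of_isUnit_mem (h1 hP) hr₀)
  refine ⟨hx.unit, ?_⟩
  rw [IsUnit.unit_spec, hL, mul_comm (r : R), ← mul_assoc, IsUnit.val_inv_mul, one_mul]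

theorem jacobson_sq_le [IsLocalRing S] (h2 : IsUnit (2 : S)) :
    (Ring.jacobson R) ^ 2 ≤ (maximalIdeal S).map (algebraMap S R) := by
  obtain ⟨c, hc⟩ := h2.exists_left_inv
  have hc' : algebraMap S R c * 2 = 1 := by rw [← map_ofNat (algebraMap S R), ← map_mul, hc, map_one]
  have hσJ : ∀ x ∈ Ring.jacobson R, σ x ∈ Ring.jacobson R := fun x hx => by
    rw [Ring.jacobson_eq_sInf_isMaximal, Ideal.mem_sInf] at hx ⊢
    intro P hP
    haveI : P.IsMaximal := hP
    exact hx (show (P.comap σ.toRingEquiv.toRingHom).IsMaximal from Ideal.comap_isMaximal_of_surjective _ σ.surjective)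
  have fixedJ : ∀ z ∈ Ring.jacobson R, σ z = z → z ∈ (maximalIdeal S).map (algebraMap S R) := fun z hz hσz => by
    obtain ⟨s, rfl⟩ := (hfix.2 z).1 hσz
    exact Ideal.mem_map_of_mem _ (nonunit_of_mem_jacobson σ hσ hfix s hz)
  rw [sq, Ideal.mul_le]
  intro x hx y hy
  rw [show x * y = algebraMap S R c * (x + σ x) * y + algebraMap S R c * algebraMap S R c * ((x - σ x) * (y + σ y)) +
      algebraMap S R c * algebraMap S R c * ((x - σ x) * (y - σ y)) by
    linear_combination (-x * y - (algebraMap S R c * (x - σ x)) * y) * hc']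
  refine add_mem (add_mem ?_ ?_) ?_
  · exact Ideal.mul_mem_right _ _ (Ideal.mul_mem_left _ _ (fixedJ _ (add_mem hx (hσJ x hx)) (by rw [map_add, hσ, add_comm])))
  · exact Ideal.mul_mem_left _ _ (Ideal.mul_mem_left _ _ (fixedJ _ (add_mem hy (hσJ y hy)) (by rw [map_add, hσ, add_comm])))
  · exact Ideal.mul_mem_left _ _ (fixedJ _ (Ideal.mul_mem_right _ _ (sub_mem hx (hσJ x hx)))
      (by rw [map_mul, map_sub, map_sub, hσ, hσ]; ring))

theorem skew_blocks [IsLocalRing S] {n : ℕ} (hid : ∀ a : R, σ a - a ∈ Ring.jacobson R) (h2 : IsUnit (2 : R))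
    (h : Matrix (Fin n) (Fin n) R) (hh : IsUnit h) (herm : -(h.map σ).transpose = h) :
    Even n ∧ ∃ v : Matrix (Fin n) (Fin n) R, IsUnit v ∧
      ∀ i j : Fin n,
        (i.val / 2 ≠ j.val / 2 → ((v.map σ).transpose * h * v) i j = 0) ∧
        (i.val / 2 = j.val / 2 → (Even i.val ↔ Even j.val) →
          ((v.map σ).transpose * h * v) i j ∈ Ring.jacobson R) ∧
        (i.val / 2 = j.val / 2 → Even i.val → ¬ Even j.val →
          ((v.map σ).transpose * h * v) i j - 1 ∈ Ring.jacobson R) ∧
        (i.val / 2 = j.val / 2 → ¬ Even i.val → Even j.val →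
          ((v.map σ).transpose * h * v) i j + 1 ∈ Ring.jacobson R) := by
  classical
  haveI := isLocalRing_of_trivial σ hσ hfix hid
  have hJm : Ring.jacobson R = maximalIdeal R :=
    le_antisymm (Ring.jacobson_le_of_isMaximal _)
      (Ring.jacobson_eq_sInf_isMaximal R ▸ le_sInf fun P hP => (IsLocalRing.eq_maximalIdeal hP).ge)
  rw [hJm] at hid ⊢
  obtain ⟨u, rfl⟩ := hh
  let τ : R ≃+* R := σ.toRingEquiv
  have hu : ∀ i j, τ ((u : Matrix (Fin n) (Fin n) R) j i) = -(u : Matrix (Fin n) (Fin n) R) i j := fun i j => by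
    have := congrFun (congrFun herm i) j
    simp only [Matrix.neg_apply, Matrix.transpose_apply, Matrix.map_apply] at this
    rw [← this, neg_neg]
    rfl
  have hconj := hf_conj τ (u : Matrix (Fin n) (Fin n) R) (-1) hσ (fun i j => by rw [neg_one_mul, hu])
  set H := hf τ (u : Matrix (Fin n) (Fin n) R) with hH
  have hdiag : ∀ z, H z z ∈ maximalIdeal R := fun z => by
    have h1 := hid (H z z)
    rw [show σ (H z z) = τ (H z z) from rfl, hconj, neg_one_mul, show -H z z - H z z = -(2 * H z z) by ring,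
      Ideal.neg_mem_iff] at h1
    rwa [Ideal.unit_mul_mem_iff_mem _ h2] at h1
  -- families of pairs
  have key : ∀ (k : ℕ) (v : Fin k × Bool → Fin n → R), (∀ p q, p.1 ≠ q.1 → H (v p) (v q) = 0) →
      (∀ i, H (v (i, false)) (v (i, true)) = 1) →
      IsUnit (Matrix.of fun p q => H (v p) (v q) : Matrix (Fin k × Bool) (Fin k × Bool) R) ∧ 2 * k ≤ n := by
    intro k v h0 h1
    let G : Matrix (Fin k × Bool) (Fin k × Bool) R := Matrix.of fun p q => H (v p) (v q)
    have hG : G.map (residue R) = (hyp k : (Matrix (Fin k × Bool) (Fin k × Bool) R)ˣ).1.map (residue R) := by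
      ext ⟨a, b⟩ ⟨c, d⟩
      simp only [G, Matrix.map_apply, Matrix.of_apply, hyp_apply]
      by_cases hac : a = c
      · subst hac
        cases b <;> cases d
        · simpa using (residue_eq_zero_iff _).2 (hdiag _)
        · simp [h1]
        · have := hconj (v (a, false)) (v (a, true))
          rw [h1, map_one, neg_one_mul] at this
          simp [← neg_eq_iff_eq_neg.2 this]
        · simpa using (residue_eq_zero_iff _).2 (hdiag _)
      · simp [h0 (a, b) (c, d) hac, hac]
    have hGu : IsUnit G := by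
      rw [Matrix.isUnit_iff_isUnit_det]
      have h3 : IsUnit (residue R G.det) := by
        rw [RingHom.map_det, RingHom.mapMatrix_apply, hG, ← RingHom.mapMatrix_apply, ← RingHom.map_det]
        exact ((Matrix.isUnit_iff_isUnit_det _).1 (hyp k).isUnit).map _
      by_contra hn
      exact h3.ne_zero ((residue_eq_zero_iff _).2 hn)
    refine ⟨hGu, ?_⟩
    have := card_le_of_gram τ u v G hGu fun p q => rfl
    simpa [mul_comm] using this
  have main : ∀ k, (∃ (k' : ℕ) (v : Fin k' × Bool → Fin n → R), 2 * k' = n ∧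
      (∀ p q, p.1 ≠ q.1 → H (v p) (v q) = 0) ∧ ∀ i, H (v (i, false)) (v (i, true)) = 1) ∨
      ∃ v : Fin k × Bool → Fin n → R, (∀ p q, p.1 ≠ q.1 → H (v p) (v q) = 0) ∧
        ∀ i, H (v (i, false)) (v (i, true)) = 1 := by
    intro k
    induction k with
    | zero => exact Or.inr ⟨fun p => p.1.elim0, fun p => p.1.elim0, fun i => i.elim0⟩
    | succ k ih =>
      rcases ih with h' | ⟨v, hv0, hv1⟩
      · exact Or.inl h'
      obtain ⟨hGu, hle⟩ := key k v hv0 hv1
      by_cases hkn : 2 * k = n
      · exact Or.inl ⟨k, v, hkn, hv0, hv1⟩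
      right
      obtain ⟨P, hP, hPc, hPu⟩ := exists_complement τ u v hGu.unit fun p q => rfl
      obtain ⟨z, l, hl⟩ := hPu (by simp; omega)
      obtain ⟨y, hy, hxy⟩ := exists_dual_complement τ hσ u v P hP hPc (e := -1) (fun i j => by rw [neg_one_mul, hu])
        isUnit_one.neg hl (hP z)
      have hsym : ∀ x y, H x y = 0 → H y x = 0 := fun x y hxy => by
        have := hconj x y
        rw [hxy, map_zero, neg_one_mul, eq_comm, neg_eq_zero] at this
        exact this
      refine ⟨fun p => Fin.lastCases (if p.2 then y else P z) (fun i => v (i, p.2)) p.1, ?_, fun i => ?_⟩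
      · rintro ⟨i, c⟩ ⟨j, d⟩ hij
        induction i using Fin.lastCases with
        | last =>
          induction j using Fin.lastCases with
          | last => exact absurd rfl hij
          | cast j =>
            simp only [Fin.lastCases_last, Fin.lastCases_castSucc]
            cases c
            · exact hP z (j, d)
            · exact hy (j, d)
        | cast i =>
          induction j using Fin.lastCases with
          | last =>
            simp only [Fin.lastCases_last, Fin.lastCases_castSucc]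
            cases d
            · exact hsym _ _ (hP z (i, c))
            · exact hsym _ _ (hy (i, c))
          | cast j =>
            simp only [Fin.lastCases_castSucc]
            exact hv0 (i, c) (j, d) fun h0 => hij (congrArg Fin.castSucc h0)
      · induction i using Fin.lastCases with
        | last => simp only [Fin.lastCases_last, if_true, Bool.false_eq_true, if_false]; exact hxy
        | cast i => simp only [Fin.lastCases_castSucc]; exact hv1 i
  rcases main (n + 1) with ⟨k, v, hk, hv0, hv1⟩ | ⟨v, hv0, hv1⟩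
  swap
  · have := (key (n + 1) v hv0 hv1).2; omega
  refine ⟨⟨k, by omega⟩, ?_⟩
  let pr : Fin n → Fin k × Bool := fun i => (⟨i.val / 2, by omega⟩, decide (i.val % 2 = 1))
  let V : Matrix (Fin n) (Fin n) R := Matrix.of fun i => v (pr i)
  let vm : Matrix (Fin n) (Fin n) R := (V.map σ).transpose
  have hvm : ∀ i j, ((vm.map σ).transpose * (u : Matrix (Fin n) (Fin n) R) * vm) i j = H (v (pr i)) (v (pr j)) := fun i j => by
    have e1 : (vm.map σ).transpose = V := by ext a b; simp [vm, hσ]
    rw [e1]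
    exact lamTr_mul_apply τ (u : Matrix (Fin n) (Fin n) R) V i j
  refine ⟨vm, ?_, fun i j => ?_⟩
  · obtain ⟨hGu, -⟩ := key k v hv0 hv1
    let ψ : Fin k × Bool ≃ Fin n :=
      { toFun := fun p => ⟨2 * p.1.val + (if p.2 then 1 else 0), by have := p.1.isLt; cases p.2 <;> simp <;> omega⟩
        invFun := pr
        left_inv := fun ⟨a, b⟩ => by
          cases b <;> refine Prod.ext (Fin.ext ?_) ?_ <;> simp [pr] <;> omega
        right_inv := fun i => Fin.ext (by simp [pr]; split_ifs <;> omega) }
    have hN : IsUnit ((vm.map σ).transpose * (u : Matrix (Fin n) (Fin n) R) * vm) := by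
      have := hGu.map (Matrix.reindexAlgEquiv R R ψ).toMulEquiv.toMonoidHom
      convert this using 1
      ext i j
      rw [hvm]
      rfl
    rw [Matrix.isUnit_iff_isUnit_det] at hN ⊢
    rw [Matrix.det_mul] at hN
    exact isUnit_of_mul_isUnit_right hN
  · rw [hvm]
    have hp1 : ∀ {a b : Fin n}, a.val / 2 = b.val / 2 → (pr a).1 = (pr b).1 := fun h => Fin.ext h
    refine ⟨fun h => hv0 _ _ fun h0 => h (congrArg Fin.val h0), fun h he => ?_, fun h he ho => ?_, fun h ho he => ?_⟩
    · have : i = j := Fin.ext (by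
        simp only [Nat.even_iff] at he
        omega)
      subst this
      exact hdiag _
    · have e1 : pr i = ((pr i).1, false) := Prod.ext rfl (by simp only [pr]; simp [Nat.even_iff.1 he])
      have e2 : pr j = ((pr i).1, true) := Prod.ext (hp1 h).symm (by simp only [pr]; simp [Nat.not_even_iff.1 ho])
      rw [e1, e2, hv1, sub_self]
      exact zero_mem _
    · have e1 : pr i = ((pr j).1, true) := Prod.ext (hp1 h) (by simp only [pr]; simp [Nat.not_even_iff.1 ho])
      have e2 : pr j = ((pr j).1, false) := Prod.ext rfl (by simp only [pr]; simp [Nat.even_iff.1 he])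
      have := hconj (v ((pr j).1, false)) (v ((pr j).1, true))
      rw [hv1, map_one, neg_one_mul] at this
      rw [e1, e2, ← neg_eq_iff_eq_neg.2 this, neg_add_cancel]
      exact zero_mem _

end Groth.Misc12.RI
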